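import Mathlib

/-!
# Abstract tori with a dicyclic normaliser

`TorusData T s z`: `T` an abelian subgroup of the finite group `G` with involution `z`, inverted by `s`, `s² = z`,
every element of `T` other than `1, z` has centraliser `T` and is conjugated into `T` only by elements of `T ∪ T s`.
Results: `N(T) = T ∪ T s` has order `2 |T|` and `|T|/2 + 3` conjugacy classes; subgroups of `T` of order `> 2`.
-/

set_option autoImplicit false

namespace Cfsg.Agent.H140.Tori

variable {G : Type*} [Group G]

/-- An abstract torus. -/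
structure TorusData (T : Subgroup G) (s z : G) : Prop where
  comm : ∀ t ∈ T, ∀ u ∈ T, t * u = u * t
  zT : z ∈ T
  zne : z ≠ 1
  zz : z * z = 1
  ss : s * s = z
  sT : s ∉ T
  inv : ∀ t ∈ T, s⁻¹ * t * s = t⁻¹
  sq : ∀ t ∈ T, t * t = 1 → t = 1 ∨ t = z
  cent : ∀ t ∈ T, t ≠ 1 → t ≠ z → ∀ g : G, t * g = g * t → g ∈ T
  norm : ∀ t ∈ T, t ≠ 1 → t ≠ z → ∀ g : G, g⁻¹ * t * g ∈ T → g ∈ T ∨ g * s⁻¹ ∈ T

namespace TorusData

variable {T : Subgroup G} {s z : G} (H : TorusData T s z)

include H

theorem inv' {t : G} (ht : t ∈ T) : s * t * s⁻¹ = t⁻¹ := by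
  have h := H.inv t⁻¹ (T.inv_mem ht)
  rw [inv_inv] at h
  calc s * t * s⁻¹ = s * (s⁻¹ * t⁻¹ * s) * s⁻¹ := by rw [h]
    _ = t⁻¹ := by group

/-- Elements of `T s` invert `T`. -/
theorem inv_of {g t : G} (hg : g * s⁻¹ ∈ T) (ht : t ∈ T) : g * t * g⁻¹ = t⁻¹ := by
  have h1 := H.inv' ht
  have h2 := H.comm _ hg t⁻¹ (T.inv_mem ht)
  calc g * t * g⁻¹ = (g * s⁻¹) * (s * t * s⁻¹) * (g * s⁻¹)⁻¹ := by group
    _ = (g * s⁻¹) * t⁻¹ * (g * s⁻¹)⁻¹ := by rw [h1]
    _ = t⁻¹ * (g * s⁻¹) * (g * s⁻¹)⁻¹ := by rw [h2]
    _ = t⁻¹ := by group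

/-- Elements of `T s` have square `z`. -/
theorem sq_of {g : G} (hg : g * s⁻¹ ∈ T) : g * g = z := by
  have h1 := H.inv' hg
  calc g * g = (g * s⁻¹) * (s * (g * s⁻¹) * s⁻¹) * (s * s) := by group
    _ = (g * s⁻¹) * (g * s⁻¹)⁻¹ * (s * s) := by rw [h1]
    _ = z := by rw [mul_inv_cancel, one_mul, H.ss]

theorem not_mem_of {g : G} (hg : g * s⁻¹ ∈ T) : g ∉ T := by
  intro h
  apply H.sT
  have h2 := T.mul_mem (T.inv_mem hg) h
  have e : (g * s⁻¹)⁻¹ * g = s := by group
  rwa [e] at h2

/-- Elements of `T ∪ T s` normalise every subgroup of `T`. -/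
theorem conj_mem_of_le {P : Subgroup G} (hP : P ≤ T) {g : G} (hg : g ∈ T ∨ g * s⁻¹ ∈ T) {t : G}
    (ht : t ∈ P) : g * t * g⁻¹ ∈ P := by
  rcases hg with hg | hg
  · rw [H.comm g hg t (hP ht), mul_inv_cancel_right]
    exact ht
  · rw [H.inv_of hg (hP ht)]
    exact P.inv_mem ht

/-- The normaliser of a subgroup `P` of `T` with an element other than `1, z`. -/
theorem mem_normalizer_iff {P : Subgroup G} (hP : P ≤ T) {t : G} (ht : t ∈ P) (h1 : t ≠ 1)
    (h2 : t ≠ z) (g : G) :
    g ∈ Subgroup.normalizer (P : Set G) ↔ (g ∈ T ∨ g * s⁻¹ ∈ T) := by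
  constructor
  · intro hg
    have hg' := (Subgroup.normalizer (P : Set G)).inv_mem hg
    rw [Subgroup.mem_normalizer_iff] at hg'
    have h3 := (hg' t).mp ht
    rw [inv_inv] at h3
    exact H.norm t (hP ht) h1 h2 g (hP h3)
  · intro hg
    rw [Subgroup.mem_normalizer_iff]
    intro t'
    constructor
    · exact H.conj_mem_of_le hP hg
    · intro h3
      have hg' : g⁻¹ ∈ T ∨ g⁻¹ * s⁻¹ ∈ T := by
        rcases hg with hg | hg
        · exact Or.inl (T.inv_mem hg)
        · right
          have h4 := H.sq_of hg
          have h5 : g⁻¹ = z⁻¹ * g := by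
            rw [← h4]
            group
          rw [h5, mul_assoc]
          exact T.mul_mem (T.inv_mem H.zT) hg
      have h4 := H.conj_mem_of_le hP hg' h3
      have e : g⁻¹ * (g * t' * g⁻¹) * g⁻¹⁻¹ = t' := by group
      rwa [e] at h4

/-- The centraliser of a subset of `T` containing an element other than `1, z`. -/
theorem centralizer_eq {P : Set G} (hP : P ⊆ T) {t : G} (ht : t ∈ P) (h1 : t ≠ 1)
    (h2 : t ≠ z) : Subgroup.centralizer P = T := by
  ext g
  rw [Subgroup.mem_centralizer_iff]
  constructor
  · intro hg
    exact H.cent t (hP ht) h1 h2 g (hg t ht)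
  · intro hg t' ht'
    exact H.comm t' (hP ht') g hg

/-- The order of `T ∪ T s`. -/
theorem card_eq (N : Subgroup G) (hN : ∀ g, g ∈ N ↔ (g ∈ T ∨ g * s⁻¹ ∈ T)) :
    Nat.card N = 2 * Nat.card T := by
  have hTN : T ≤ N := fun g hg => (hN g).mpr (Or.inl hg)
  have hsN : s ∈ N := (hN s).mpr (Or.inr (by rw [mul_inv_cancel]; exact T.one_mem))
  have hidx : (T.subgroupOf N).index = 2 := by
    rw [Subgroup.index_eq_two_iff]
    refine ⟨⟨s⁻¹, N.inv_mem hsN⟩, ?_⟩
    rintro ⟨b, hb⟩
    rw [Subgroup.mem_subgroupOf, Subgroup.mem_subgroupOf]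
    change Xor (b * s⁻¹ ∈ T) (b ∈ T)
    rcases (hN b).mp hb with h | h
    · refine Or.inr ⟨h, fun h' => H.not_mem_of h' h⟩
    · exact Or.inl ⟨h, H.not_mem_of h⟩
  have h1 := Subgroup.card_mul_index (T.subgroupOf N)
  rw [hidx, Nat.card_congr (Subgroup.subgroupOfEquivOfLe hTN).toEquiv] at h1
  rw [← h1, mul_comm]

theorem z_comm {g : G} (hg : g ∈ T ∨ g * s⁻¹ ∈ T) : z * g = g * z := by
  rcases hg with hg | hg
  · exact H.comm z H.zT g hg
  · rw [← H.sq_of hg]
    exact mul_assoc g g g

/-- The number of conjugacy classes of `T ∪ T s`. -/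
theorem card_conjClasses (N : Subgroup G) (hN : ∀ g, g ∈ N ↔ (g ∈ T ∨ g * s⁻¹ ∈ T)) (k : ℕ)
    (hT : Nat.card T = 2 * (k + 2)) : Nat.card (ConjClasses N) = k + 5 := by
  classical
  have hTN : T ≤ N := fun g hg => (hN g).mpr (Or.inl hg)
  have hsN : s ∈ N := (hN s).mpr (Or.inr (by rw [mul_inv_cancel]; exact T.one_mem))
  have hzN : z ∈ N := hTN H.zT
  have hcN : Nat.card N = 4 * (k + 2) := by
    rw [H.card_eq N hN, hT]
    ring
  have hfin : Finite N := Nat.finite_of_card_ne_zero (by rw [hcN]; omega)
  have : Fintype N := Fintype.ofFinite N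
  -- the two elements `1, z` of `N`
  set zN : N := ⟨z, hzN⟩ with hzNdef
  have hz1 : zN ≠ 1 := by
    intro h
    exact H.zne (congrArg Subtype.val h)
  have hcT : Nat.card {g : N // (g : G) ∈ T} = 2 * (k + 2) := by
    rw [← hT]
    exact Nat.card_congr (Subgroup.subgroupOfEquivOfLe hTN).toEquiv
  -- the centralisers
  have key : ∀ g : N, Nat.card {h : N // Commute g h} =
      4 + (if (g : G) ∈ T then 2 * k else 0) + (if g = 1 ∨ g = zN then 2 * (k + 2) else 0) := by
    intro g
    by_cases h1 : g = 1 ∨ g = zN
    · have hgT : (g : G) ∈ T := by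
        rcases h1 with rfl | rfl
        · exact T.one_mem
        · exact H.zT
      rw [if_pos hgT, if_pos h1]
      have h2 : ∀ h : N, Commute g h := by
        intro h
        rcases h1 with rfl | rfl
        · exact Commute.one_left h
        · apply Subtype.ext
          exact H.z_comm ((hN h).mp h.2)
      have h3 : Nat.card {h : N // Commute g h} = Nat.card N :=
        Nat.card_congr (Equiv.subtypeUnivEquiv h2)
      rw [h3, hcN]
      ring
    · rw [if_neg h1, add_zero]
      have hg1 : (g : G) ≠ 1 := fun h => h1 (Or.inl (Subtype.ext h))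
      have hgz : (g : G) ≠ z := fun h => h1 (Or.inr (Subtype.ext h))
      by_cases hgT : (g : G) ∈ T
      · rw [if_pos hgT]
        have h2 : ∀ h : N, Commute g h ↔ (h : G) ∈ T := by
          intro h
          constructor
          · intro hc
            exact H.cent _ hgT hg1 hgz _ (congrArg Subtype.val hc)
          · intro hh
            apply Subtype.ext
            exact H.comm _ hgT _ hh
        have h3 : Nat.card {h : N // Commute g h} = Nat.card {h : N // (h : G) ∈ T} :=
          Nat.card_congr (Equiv.subtypeEquivRight h2)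
        rw [h3, hcT]
        ring
      · rw [if_neg hgT, add_zero]
        have hgs : (g : G) * s⁻¹ ∈ T := by
          rcases (hN g).mp g.2 with h | h
          · exact absurd h hgT
          · exact h
        have hT' : ∀ h : N, (h : G) ∈ T → Commute g h → h = 1 ∨ h = zN := by
          intro h hh hc
          have h3 := H.inv_of hgs hh
          have h4 : (g : G) * h = h * g := congrArg Subtype.val hc
          rw [h4, mul_inv_cancel_right] at h3
          have h5 : (h : G) * h = 1 := by
            nth_rewrite 1 [h3]
            exact inv_mul_cancel _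
          rcases H.sq _ hh h5 with h6 | h6
          · exact Or.inl (Subtype.ext h6)
          · exact Or.inr (Subtype.ext h6)
        have hzc : Commute zN g := by
          apply Subtype.ext
          exact H.z_comm ((hN g).mp g.2)
        have h2 : ∀ h : N, Commute g h ↔ h ∈ ({1, zN, g, zN * g} : Finset N) := by
          intro h
          simp only [Finset.mem_insert, Finset.mem_singleton]
          constructor
          · intro hc
            by_cases hh : (h : G) ∈ T
            · rcases hT' h hh hc with h3 | h3
              · exact Or.inl h3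
              · exact Or.inr (Or.inl h3)
            · have hhs : (h : G) * s⁻¹ ∈ T := by
                rcases (hN h).mp h.2 with h3 | h3
                · exact absurd h3 hh
                · exact h3
              have h3 : ((h * g⁻¹ : N) : G) ∈ T := by
                have h4 := T.mul_mem hhs (T.inv_mem hgs)
                have e : (h : G) * s⁻¹ * ((g : G) * s⁻¹)⁻¹ = h * (g : G)⁻¹ := by group
                rw [e] at h4
                exact h4
              have h4 : Commute g (h * g⁻¹) := hc.mul_right (Commute.refl g).inv_right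
              rcases hT' _ h3 h4 with h5 | h5
              · right; right; left
                rw [mul_inv_eq_one] at h5
                exact h5
              · right; right; right
                rw [← h5, inv_mul_cancel_right]
          · rintro (rfl | rfl | rfl | rfl)
            · exact Commute.one_right g
            · exact hzc.symm
            · exact Commute.refl _
            · exact hzc.symm.mul_right (Commute.refl g)
        have h3 : Nat.card {h : N // Commute g h} =
            Nat.card {h : N // h ∈ ({1, zN, g, zN * g} : Finset N)} :=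
          Nat.card_congr (Equiv.subtypeEquivRight h2)
        rw [h3, Nat.card_eq_fintype_card, Fintype.card_coe]
        have hn1 : g ≠ 1 := fun h => h1 (Or.inl h)
        have hn2 : g ≠ zN := fun h => h1 (Or.inr h)
        have hn3 : zN * g ≠ 1 := by
          intro h
          apply hgT
          have h4 : g = zN⁻¹ := by
            rw [eq_comm, inv_eq_iff_mul_eq_one]
            exact h
          rw [h4]
          exact T.inv_mem H.zT
        have hn4 : zN * g ≠ zN := by
          intro h
          exact hn1 (mul_eq_left.mp h)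
        have hn5 : zN * g ≠ g := by
          intro h
          exact hz1 (mul_eq_right.mp h)
        rw [Finset.card_insert_of_notMem, Finset.card_insert_of_notMem,
          Finset.card_insert_of_notMem, Finset.card_singleton]
        · simp only [Finset.mem_singleton]
          exact fun h => hn5 h.symm
        · simp only [Finset.mem_insert, Finset.mem_singleton]
          rintro (h | h)
          · exact hn2 h.symm
          · exact hn4 h.symm
        · simp only [Finset.mem_insert, Finset.mem_singleton]
          rintro (h | h | h)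
          · exact hz1 h.symm
          · exact hn1 h.symm
          · exact hn3 h.symm
  -- the sum
  have hsum : Nat.card {p : N × N // Commute p.1 p.2} = 4 * (k + 2) * (k + 5) := by
    rw [Nat.card_congr (Equiv.subtypeProdEquivSigmaSubtype (fun a b : N => Commute a b)),
      Nat.card_sigma, Finset.sum_congr rfl fun g _ => key g, Finset.sum_add_distrib,
      Finset.sum_add_distrib, ← Finset.sum_filter, ← Finset.sum_filter, Finset.sum_const,
      Finset.sum_const, Finset.sum_const]
    have h1 : (Finset.univ : Finset N).card = 4 * (k + 2) := by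
      rw [Finset.card_univ, ← Nat.card_eq_fintype_card, hcN]
    have h2 : (Finset.univ.filter (fun g : N => (g : G) ∈ T)).card = 2 * (k + 2) := by
      rw [← hcT, Nat.card_eq_fintype_card, Fintype.card_subtype]
    have h3 : (Finset.univ.filter (fun g : N => g = 1 ∨ g = zN)).card = 2 := by
      have e : Finset.univ.filter (fun g : N => g = 1 ∨ g = zN) = {1, zN} := by
        ext g
        simp
      rw [e, Finset.card_pair hz1.symm]
    rw [h1, h2, h3]
    simp only [smul_eq_mul]
    ring
  rw [card_comm_eq_card_conjClasses_mul_card, hcN, mul_comm] at hsum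
  exact Nat.eq_of_mul_eq_mul_left (by omega) hsum

end TorusData

end Cfsg.Agent.H140.Tori
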