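import Mathlib
import Cfsg.Agent.H140.Tori
import Cfsg.Agent.ClassicalGeometry.NonsplitTorus

/-!
# The split and non-split tori of `SL₂(F)`, `F` a finite field of odd order

* `split F : Subgroup SL(2, F)`: the diagonal matrices, cyclic of order `q - 1`, `split_data : TorusData`.
* `exists_nonsplit`: a cyclic `T'` of order `q + 1` with `TorusData`; every element without eigenvector is conjugate into it.
-/

set_option autoImplicit false

namespace Cfsg.Agent.H140.SLTwo

open scoped MatrixGroups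
open Cfsg.Agent.H140.Tori Cfsg.Agent.ClassicalGeometry.NonsplitTorus

section field

variable {F : Type*} [Field F]

theorem det_eq (g : SL(2, F)) : g.1 0 0 * g.1 1 1 - g.1 0 1 * g.1 1 0 = 1 := by
  have := g.2
  rwa [Matrix.det_fin_two] at this

theorem ext4 {g h : SL(2, F)} (h00 : g.1 0 0 = h.1 0 0) (h01 : g.1 0 1 = h.1 0 1)
    (h10 : g.1 1 0 = h.1 1 0) (h11 : g.1 1 1 = h.1 1 1) : g = h := by
  apply Subtype.ext
  ext i j
  fin_cases i <;> fin_cases j
  · exact h00
  · exact h01
  · exact h10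
  · exact h11

theorem mul00 (g h : SL(2, F)) : (g * h).1 0 0 = g.1 0 0 * h.1 0 0 + g.1 0 1 * h.1 1 0 := by
  change (g.1 * h.1) 0 0 = _
  rw [Matrix.mul_apply, Fin.sum_univ_two]

theorem mul01 (g h : SL(2, F)) : (g * h).1 0 1 = g.1 0 0 * h.1 0 1 + g.1 0 1 * h.1 1 1 := by
  change (g.1 * h.1) 0 1 = _
  rw [Matrix.mul_apply, Fin.sum_univ_two]

theorem mul10 (g h : SL(2, F)) : (g * h).1 1 0 = g.1 1 0 * h.1 0 0 + g.1 1 1 * h.1 1 0 := by
  change (g.1 * h.1) 1 0 = _
  rw [Matrix.mul_apply, Fin.sum_univ_two]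

theorem mul11 (g h : SL(2, F)) : (g * h).1 1 1 = g.1 1 0 * h.1 0 1 + g.1 1 1 * h.1 1 1 := by
  change (g.1 * h.1) 1 1 = _
  rw [Matrix.mul_apply, Fin.sum_univ_two]

theorem one00 : (1 : SL(2, F)).1 0 0 = 1 := by simp
theorem one01 : (1 : SL(2, F)).1 0 1 = 0 := by simp
theorem one10 : (1 : SL(2, F)).1 1 0 = 0 := by simp
theorem one11 : (1 : SL(2, F)).1 1 1 = 1 := by simp

theorem neg00 (g : SL(2, F)) : (-g).1 0 0 = -g.1 0 0 := by simp
theorem neg01 (g : SL(2, F)) : (-g).1 0 1 = -g.1 0 1 := by simp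
theorem neg10 (g : SL(2, F)) : (-g).1 1 0 = -g.1 1 0 := by simp
theorem neg11 (g : SL(2, F)) : (-g).1 1 1 = -g.1 1 1 := by simp

theorem inv00 (g : SL(2, F)) : (g⁻¹).1 0 0 = g.1 1 1 := by
  rw [Matrix.SpecialLinearGroup.coe_inv, Matrix.adjugate_fin_two]; simp
theorem inv01 (g : SL(2, F)) : (g⁻¹).1 0 1 = -g.1 0 1 := by
  rw [Matrix.SpecialLinearGroup.coe_inv, Matrix.adjugate_fin_two]; simp
theorem inv10 (g : SL(2, F)) : (g⁻¹).1 1 0 = -g.1 1 0 := by
  rw [Matrix.SpecialLinearGroup.coe_inv, Matrix.adjugate_fin_two]; simp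
theorem inv11 (g : SL(2, F)) : (g⁻¹).1 1 1 = g.1 0 0 := by
  rw [Matrix.SpecialLinearGroup.coe_inv, Matrix.adjugate_fin_two]; simp

/-- the matrix with given entries -/
def mk (a b c d : F) (h : a * d - b * c = 1) : SL(2, F) :=
  ⟨!![a, b; c, d], by rw [Matrix.det_fin_two]; simpa using h⟩

@[simp] theorem mk00 (a b c d : F) (h : a * d - b * c = 1) : (mk a b c d h).1 0 0 = a := rfl
@[simp] theorem mk01 (a b c d : F) (h : a * d - b * c = 1) : (mk a b c d h).1 0 1 = b := rfl
@[simp] theorem mk10 (a b c d : F) (h : a * d - b * c = 1) : (mk a b c d h).1 1 0 = c := rfl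
@[simp] theorem mk11 (a b c d : F) (h : a * d - b * c = 1) : (mk a b c d h).1 1 1 = d := rfl

/-- An involution of `SL₂` is `-1`. -/
theorem sq_eq_one (h2 : (2 : F) ≠ 0) {t : SL(2, F)} (ht : t * t = 1) : t = 1 ∨ t = -1 := by
  have e := ht
  have d := det_eq t
  have e' : t = t⁻¹ := eq_inv_of_mul_eq_one_left ht
  have h00 : t.1 0 0 = t.1 1 1 := by rw [← inv00 t, ← e']
  have h01 : t.1 0 1 = 0 := by
    have h : t.1 0 1 = -t.1 0 1 := by rw [← inv01 t, ← e']
    have h3 : (2 : F) * t.1 0 1 = 0 := by linear_combination h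
    exact (mul_eq_zero.mp h3).resolve_left h2
  have h10 : t.1 1 0 = 0 := by
    have h : t.1 1 0 = -t.1 1 0 := by rw [← inv10 t, ← e']
    have h3 : (2 : F) * t.1 1 0 = 0 := by linear_combination h
    exact (mul_eq_zero.mp h3).resolve_left h2
  rw [← h00, h01, zero_mul, sub_zero] at d
  rcases mul_self_eq_one_iff.mp d with h | h
  · left
    exact ext4 (by rw [h, one00]) (by rw [h01, one01]) (by rw [h10, one10]) (by rw [← h00, h, one11])
  · right
    exact ext4 (by rw [h, neg00, one00]) (by rw [h01, neg01, one01, neg_zero])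
      (by rw [h10, neg10, one10, neg_zero]) (by rw [← h00, h, neg11, one11])

theorem neg_one_ne_one (h2 : (2 : F) ≠ 0) : (-1 : SL(2, F)) ≠ 1 := by
  intro h
  have h1 := congrArg (fun g : SL(2, F) => g.1 0 0) h
  simp only [neg00, one00] at h1
  apply h2
  linear_combination -h1

variable (F) in
/-- The diagonal subgroup. -/
def split : Subgroup SL(2, F) where
  carrier := {g | g.1 0 1 = 0 ∧ g.1 1 0 = 0}
  mul_mem' := by
    rintro a b ⟨ha, ha'⟩ ⟨hb, hb'⟩
    refine ⟨?_, ?_⟩
    · rw [mul01, ha, hb]; ring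
    · rw [mul10, ha', hb']; ring
  one_mem' := ⟨one01, one10⟩
  inv_mem' := by
    rintro a ⟨ha, ha'⟩
    refine ⟨?_, ?_⟩
    · rw [inv01, ha, neg_zero]
    · rw [inv10, ha', neg_zero]

theorem mem_split {g : SL(2, F)} : g ∈ split F ↔ g.1 0 1 = 0 ∧ g.1 1 0 = 0 := Iff.rfl

theorem split_det {g : SL(2, F)} (hg : g ∈ split F) : g.1 0 0 * g.1 1 1 = 1 := by
  have := det_eq g
  rwa [hg.1, zero_mul, sub_zero] at this

variable (F) in
/-- the split torus is the group of units -/
def splitEquiv : split F ≃* Fˣ where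
  toFun g := ⟨g.1.1 0 0, g.1.1 1 1, split_det g.2, by rw [mul_comm]; exact split_det g.2⟩
  invFun u := ⟨mk (u : F) 0 0 (u⁻¹ : Fˣ) (by simp), ⟨rfl, rfl⟩⟩
  left_inv g := by
    apply Subtype.ext
    apply ext4
    · rfl
    · exact g.2.1.symm
    · exact g.2.2.symm
    · rfl
  right_inv u := by
    apply Units.ext
    rfl
  map_mul' g h := by
    apply Units.ext
    change (g.1 * h.1).1 0 0 = _
    rw [mul00, g.2.1, zero_mul, add_zero]
    rfl

instance isCyclic_split [Finite F] : IsCyclic (split F) :=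
  isCyclic_of_surjective (splitEquiv F).symm (splitEquiv F).symm.surjective

theorem card_split [Fintype F] : Nat.card (split F) = Fintype.card F - 1 := by
  classical
  rw [Nat.card_congr (splitEquiv F).toEquiv, Nat.card_eq_fintype_card, Fintype.card_units]

variable (F) in
/-- the Weyl element -/
def wl : SL(2, F) := mk 0 1 (-1) 0 (by ring)

theorem split_eq_one_or {t : SL(2, F)} (ht : t ∈ split F) (h : t.1 0 0 ^ 2 = 1) : t = 1 ∨ t = -1 := by
  have d := split_det ht
  have h0 : t.1 0 0 ≠ 0 := left_ne_zero_of_mul_eq_one d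
  have h11 : t.1 1 1 = t.1 0 0 := by
    apply mul_left_cancel₀ h0
    linear_combination d - h
  rw [pow_two] at h
  rcases mul_self_eq_one_iff.mp h with h | h
  · left
    exact ext4 (by rw [h, one00]) (by rw [ht.1, one01]) (by rw [ht.2, one10]) (by rw [h11, h, one11])
  · right
    exact ext4 (by rw [h, neg00, one00]) (by rw [ht.1, neg01, one01, neg_zero])
      (by rw [ht.2, neg10, one10, neg_zero]) (by rw [h11, h, neg11, one11])

theorem split_sq_ne {t : SL(2, F)} (ht : t ∈ split F) (h1 : t ≠ 1) (h2 : t ≠ -1) :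
    t.1 0 0 - t.1 1 1 ≠ 0 := by
  intro h
  have d := split_det ht
  rcases split_eq_one_or ht (by rw [pow_two]; linear_combination d + t.1 0 0 * h) with h3 | h3
  · exact h1 h3
  · exact h2 h3

theorem split_data (h2 : (2 : F) ≠ 0) : TorusData (split F) (wl F) (-1 : SL(2, F)) where
  comm t ht u hu := by
    apply ext4
    · rw [mul00, mul00, ht.1, hu.1]; ring
    · rw [mul01, mul01, ht.1, hu.1]; ring
    · rw [mul10, mul10, ht.2, hu.2]; ring
    · rw [mul11, mul11, ht.2, hu.2]; ring
  zT := ⟨by rw [neg01, one01, neg_zero], by rw [neg10, one10, neg_zero]⟩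
  zne := neg_one_ne_one h2
  zz := by simp
  ss := by
    apply ext4
    · rw [mul00, neg00, one00]; simp [wl]
    · rw [mul01, neg01, one01]; simp [wl]
    · rw [mul10, neg10, one10]; simp [wl]
    · rw [mul11, neg11, one11]; simp [wl]
  sT := by
    intro h
    exact one_ne_zero (h.1 : (1 : F) = 0)
  inv t ht := by
    rw [mul_assoc, inv_mul_eq_iff_eq_mul]
    apply ext4
    · rw [mul00, mul00, inv00, inv10, ht.1, ht.2]; simp [wl]
    · rw [mul01, mul01, inv01, inv11, ht.1]; simp [wl]
    · rw [mul10, mul10, inv00, inv10, ht.2]; simp [wl]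
    · rw [mul11, mul11, inv01, inv11, ht.1, ht.2]; simp [wl]
  sq t _ h := sq_eq_one h2 h
  cent t ht h1 h2 g hg := by
    have hne := split_sq_ne ht h1 h2
    have e01 : (t * g).1 0 1 = (g * t).1 0 1 := by rw [hg]
    have e10 : (t * g).1 1 0 = (g * t).1 1 0 := by rw [hg]
    rw [mul01, mul01, ht.1] at e01
    rw [mul10, mul10, ht.2] at e10
    constructor
    · have h3 : (t.1 0 0 - t.1 1 1) * g.1 0 1 = 0 := by linear_combination e01
      exact (mul_eq_zero.mp h3).resolve_left hne
    · have h3 : (t.1 0 0 - t.1 1 1) * g.1 1 0 = 0 := by linear_combination -e10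
      exact (mul_eq_zero.mp h3).resolve_left hne
  norm t ht h1 h2 g hg := by
    have hne := split_sq_ne ht h1 h2
    obtain ⟨u, hu, htu⟩ : ∃ u ∈ split F, t * g = g * u := ⟨_, hg, by group⟩
    have e00 : (t * g).1 0 0 = (g * u).1 0 0 := by rw [htu]
    have e01 : (t * g).1 0 1 = (g * u).1 0 1 := by rw [htu]
    have e10 : (t * g).1 1 0 = (g * u).1 1 0 := by rw [htu]
    have e11 : (t * g).1 1 1 = (g * u).1 1 1 := by rw [htu]
    rw [mul00, mul00, ht.1, hu.2] at e00
    rw [mul01, mul01, ht.1, hu.1] at e01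
    rw [mul10, mul10, ht.2, hu.2] at e10
    rw [mul11, mul11, ht.2, hu.1] at e11
    have d := det_eq g
    by_cases h0 : g.1 0 0 = 0
    · right
      have h01 : g.1 0 1 ≠ 0 := by
        intro h
        rw [h0, h] at d
        simp at d
      have h11 : g.1 1 1 = 0 := by
        have a1 : t.1 0 0 = u.1 1 1 := by
          apply mul_left_cancel₀ h01
          linear_combination e01
        have h3 : (t.1 0 0 - t.1 1 1) * g.1 1 1 = 0 := by
          rw [← a1] at e11
          linear_combination -e11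
        exact (mul_eq_zero.mp h3).resolve_left hne
      constructor
      · rw [mul01, inv01, inv11, h0]
        simp [wl]
      · rw [mul10, inv00, inv10, h11]
        simp [wl]
    · left
      have a1 : t.1 0 0 = u.1 0 0 := by
        apply mul_left_cancel₀ h0
        linear_combination e00
      constructor
      · have d1 := split_det ht
        have d2 := split_det hu
        have a2 : t.1 1 1 = u.1 1 1 := by
          have h00 : t.1 0 0 ≠ 0 := left_ne_zero_of_mul_eq_one d1
          apply mul_left_cancel₀ h00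
          rw [d1, a1, d2]
        have h3 : (t.1 0 0 - t.1 1 1) * g.1 0 1 = 0 := by
          rw [← a2] at e01
          linear_combination e01
        exact (mul_eq_zero.mp h3).resolve_left hne
      · have h3 : (t.1 0 0 - t.1 1 1) * g.1 1 0 = 0 := by
          rw [← a1] at e10
          linear_combination -e10
        exact (mul_eq_zero.mp h3).resolve_left hne

end field

section finite

variable {F : Type*} [Field F] [Fintype F]

theorem two_ne_zero_of_odd (hodd : Odd (Fintype.card F)) : (2 : F) ≠ 0 := by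
  intro h
  obtain ⟨p, hp⟩ := CharP.exists F
  obtain ⟨n, hp', hn⟩ := FiniteField.card F p
  have h2 : ((2 : ℕ) : F) = 0 := by exact_mod_cast h
  have h3 := (CharP.cast_eq_zero_iff F p 2).mp h2
  rw [(Nat.prime_dvd_prime_iff_eq hp' Nat.prime_two).mp h3] at hn
  rw [hn, ← Nat.not_even_iff_odd] at hodd
  exact hodd ((Nat.even_pow.mpr ⟨even_two, n.2.ne'⟩))

/-- `g` has no eigenvector. -/
def NoEig (g : SL(2, F)) : Prop :=
  ∀ (c : F) (v : Fin 2 → F), v ≠ 0 → (g : Matrix (Fin 2) (Fin 2) F).mulVec v ≠ c • v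

/-- Every element without eigenvector is conjugate to a matrix `x + y J`, `J = !![0, ε; 1, 0]`. -/
theorem NoEig.exists_conj (hodd : Odd (Fintype.card F)) {ε : F} (hε : ¬ IsSquare ε) {g : SL(2, F)}
    (hg : NoEig g) : ∃ (P : SL(2, F)) (x y : F), (P⁻¹ * g * P).1 0 0 = x ∧ (P⁻¹ * g * P).1 0 1 = ε * y ∧
      (P⁻¹ * g * P).1 1 0 = y ∧ (P⁻¹ * g * P).1 1 1 = x := by
  have h2 := two_ne_zero_of_odd hodd
  have hε0 : ε ≠ 0 := by rintro rfl; exact hε (IsSquare.zero)
  have d := det_eq g
  set α := (g.1 0 0 - g.1 1 1) / 2 with hα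
  set β := g.1 0 1 with hβ
  set γ := g.1 1 0 with hγ
  set τ := (g.1 0 0 + g.1 1 1) / 2 with hτ
  have e00 : g.1 0 0 = τ + α := by rw [hτ, hα]; field_simp; ring
  have e11 : g.1 1 1 = τ - α := by rw [hτ, hα]; field_simp; ring
  have hγ0 : γ ≠ 0 := by
    intro h
    apply hg (g.1 0 0) ![1, 0]
    · intro h'
      have := congrFun h' 0
      simp at this
    · ext i
      fin_cases i
      · simp [Matrix.mulVec, dotProduct, Fin.sum_univ_two]
      · simp only [Matrix.mulVec, dotProduct, Fin.sum_univ_two]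
        simp [← hγ, h]
  set D := α ^ 2 + β * γ with hD
  have hDns : ¬ IsSquare D := by
    rintro ⟨r, hr⟩
    -- eigenvector for `τ + r`
    apply hg (τ + r) ![α + r, γ]
    · intro h'
      have := congrFun h' 1
      simp [hγ0] at this
    · ext i
      fin_cases i
      · simp only [Matrix.mulVec, dotProduct, Fin.sum_univ_two]
        simp only [Fin.zero_eta, Fin.isValue, Matrix.cons_val_zero, Matrix.cons_val_one,
          Pi.smul_apply, smul_eq_mul]
        rw [e00, ← hβ]
        linear_combination hr - hD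
      · simp only [Matrix.mulVec, dotProduct, Fin.sum_univ_two]
        simp only [Fin.mk_one, Fin.isValue, Matrix.cons_val_zero, Matrix.cons_val_one,
          Pi.smul_apply, smul_eq_mul]
        rw [e11, ← hγ]
        ring
  have hD0 : D ≠ 0 := by
    intro h
    rw [h] at hDns
    exact hDns (IsSquare.zero)
  -- `D = ε r²`
  obtain ⟨r, hr⟩ : ∃ r : F, D = ε * r ^ 2 := by
    classical
    have hc : ringChar F ≠ 2 := by
      intro hc
      apply h2
      have := ringChar.Nat.cast_ringChar (R := F)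
      rw [hc] at this
      exact_mod_cast this
    have h1 := quadraticChar_neg_one_iff_not_isSquare.2 hDns
    have h3 := quadraticChar_neg_one_iff_not_isSquare.2 hε
    have h4 : quadraticChar F (D * ε) = 1 := by rw [map_mul, h1, h3]; norm_num
    rw [quadraticChar_one_iff_isSquare (mul_ne_zero hD0 hε0)] at h4
    obtain ⟨e, he⟩ := h4
    refine ⟨e / ε, ?_⟩
    field_simp
    rw [pow_two, ← he]
  have hr0 : r ≠ 0 := by
    rintro rfl
    apply hD0
    rw [hr]; ring
  -- a vector with `det [v, g₀ v] = r`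
  obtain ⟨a, b, hab⟩ : ∃ a b : F, γ * a ^ 2 - (D / γ) * b ^ 2 = r := by
    obtain ⟨a, b, hab⟩ := FiniteField.exists_root_sum_quadratic
      (f := Polynomial.C γ * Polynomial.X ^ 2 + Polynomial.C 0 * Polynomial.X + Polynomial.C (-r))
      (g := Polynomial.C (-(D / γ)) * Polynomial.X ^ 2 + Polynomial.C 0 * Polynomial.X + Polynomial.C 0)
      (Polynomial.degree_quadratic hγ0)
      (Polynomial.degree_quadratic (neg_ne_zero.mpr (div_ne_zero hD0 hγ0))) (Nat.odd_iff.mp hodd)
    refine ⟨a, b, ?_⟩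
    simp only [Polynomial.eval_add, Polynomial.eval_mul, Polynomial.eval_C, Polynomial.eval_pow,
      Polynomial.eval_X] at hab
    linear_combination hab
  -- `v = (x, y)`, `x = a + (α / γ) b`, `y = b`
  set x := a + α / γ * b with hx
  have hform : γ * x ^ 2 - 2 * α * x * b - β * b ^ 2 = r := by
    rw [← hab, hx, hD]
    field_simp
    ring
  -- `w = g₀ v / r`
  set w0 := (α * x + β * b) / r with hw0
  set w1 := (γ * x - α * b) / r with hw1
  have hdet : x * w1 - w0 * b = 1 := by
    rw [hw0, hw1]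
    field_simp
    linear_combination hform
  refine ⟨mk x w0 b w1 hdet, τ, r, ?_, ?_, ?_, ?_⟩
  · rw [mul00, mul00, mul01, inv00, inv01, mk00, mk01, mk10, mk11, e00, e11, ← hβ, ← hγ]
    linear_combination τ * hdet + (hw1 ▸ hw0 ▸ by
      field_simp
      ring : w1 * (α * x + β * b) - w0 * (γ * x - α * b) = 0)
  · rw [mul01, mul00, mul01, inv00, inv01, mk01, mk11, e00, e11, ← hβ, ← hγ]
    have e1 : α * w0 + β * w1 = ε * r * x := by
      rw [hw0, hw1]
      field_simp
      linear_combination x * (hr - hD)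
    have e2 : γ * w0 - α * w1 = ε * r * b := by
      rw [hw0, hw1]
      field_simp
      linear_combination b * (hr - hD)
    linear_combination w1 * e1 - w0 * e2 + ε * r * hdet
  · rw [mul10, mul10, mul11, inv10, inv11, mk00, mk10, e00, e11, ← hβ, ← hγ]
    linear_combination hform
  · rw [mul11, mul10, mul11, inv10, inv11, mk00, mk01, mk10, mk11, e00, e11, ← hβ, ← hγ]
    have e1 : α * w0 + β * w1 = ε * r * x := by
      rw [hw0, hw1]
      field_simp
      linear_combination x * (hr - hD)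
    have e2 : γ * w0 - α * w1 = ε * r * b := by
      rw [hw0, hw1]
      field_simp
      linear_combination b * (hr - hD)
    linear_combination -b * e1 + x * e2 + τ * hdet

/-- **The non-split torus**: `T' = ⟨a⟩` of order `q + 1`, with the torus data and no eigenvectors. -/
theorem exists_nonsplit (hodd : Odd (Fintype.card F)) :
    ∃ (a s : SL(2, F)), orderOf a = Fintype.card F + 1 ∧ TorusData (Subgroup.zpowers a) s (-1) ∧
      ∀ t ∈ Subgroup.zpowers a, t ≠ 1 → t ≠ -1 → NoEig t := by
  have h2 := two_ne_zero_of_odd hodd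
  obtain ⟨a, s, K, ha, hs, hsa, hneg, hT, hunit, hcomm⟩ := exists_torus (F := F)
  have hsT : ∀ t ∈ Subgroup.zpowers a, s⁻¹ * t * s = t⁻¹ := by
    rintro t ⟨k, rfl⟩
    change s⁻¹ * a ^ k * s = (a ^ k)⁻¹
    have h5 := conj_zpow (i := k) (a := s⁻¹) (b := a)
    rw [inv_inv] at h5
    rw [← h5, hsa, inv_zpow]
  have hcent : ∀ t ∈ Subgroup.zpowers a, t ≠ 1 → t ≠ -1 → ∀ g : SL(2, F), t * g = g * t →
        g ∈ Subgroup.zpowers a := by
    intro t ht h1 h2 g hg
    have hg' : (t : Matrix (Fin 2) (Fin 2) F) * (g : Matrix (Fin 2) (Fin 2) F) =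
        (g : Matrix (Fin 2) (Fin 2) F) * (t : Matrix (Fin 2) (Fin 2) F) := by
      have := congrArg (Subtype.val) hg
      simpa using this
    obtain ⟨α, β, hαβ⟩ := commutant _ _ (fun c hc => by
      rcases eq_one_or_of_smul t c hc with h | h
      · exact h1 h
      · exact h2 h) hg'
    rw [hT, hαβ]
    have htK := (hT t).mp ht
    exact K.add_mem (K.smul_mem K.one_mem α) (K.smul_mem htK β)
  refine ⟨a, s, ha, ?_, ?_⟩
  · refine ⟨?_, hneg, neg_one_ne_one h2, by simp, hs, ?_, hsT, fun t _ h => sq_eq_one h2 h, hcent, ?_⟩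
    · rintro _ ⟨i, rfl⟩ _ ⟨j, rfl⟩
      exact ((Commute.refl a).zpow_zpow i j).eq
    · rintro ⟨k, hk⟩
      have hk : a ^ k = s := hk
      have h1 : s⁻¹ * a * s = a := by
        rw [← hk, mul_assoc, ← zpow_one_add, add_comm, zpow_add, zpow_one, inv_mul_cancel_left]
      rw [h1] at hsa
      have h2 : a ^ 2 = 1 := by
        rw [pow_two]
        nth_rewrite 1 [hsa]
        exact inv_mul_cancel a
      have h3 := Nat.le_of_dvd (by norm_num) (orderOf_dvd_of_pow_eq_one h2)
      rw [ha] at h3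
      have hq : 1 < Fintype.card F := Fintype.one_lt_card
      omega
    · intro t ht h1 h2 g hg
      have htK := (hT t).mp ht
      have htK' := (hT _).mp hg
      set t' := g⁻¹ * t * g with ht'
      have htr : (t' : Matrix (Fin 2) (Fin 2) F).trace = (t : Matrix (Fin 2) (Fin 2) F).trace := by
        rw [ht', Matrix.SpecialLinearGroup.coe_mul, Matrix.SpecialLinearGroup.coe_mul,
          Matrix.trace_mul_comm, ← mul_assoc, ← Matrix.SpecialLinearGroup.coe_mul,
          mul_inv_cancel, Matrix.SpecialLinearGroup.coe_one, one_mul]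
      have hCH := mul_self_eq (t : Matrix (Fin 2) (Fin 2) F)
      have hCH' := mul_self_eq (t' : Matrix (Fin 2) (Fin 2) F)
      rw [t.2, one_smul] at hCH
      rw [t'.2, one_smul, htr] at hCH'
      set τ := (t : Matrix (Fin 2) (Fin 2) F).trace with hτ
      have hprod : ((t' : Matrix (Fin 2) (Fin 2) F) - (t : Matrix (Fin 2) (Fin 2) F)) *
          ((t' : Matrix (Fin 2) (Fin 2) F) + (t : Matrix (Fin 2) (Fin 2) F) - τ • 1) = 0 := by
        have hc := hcomm _ htK' _ htK
        have e1 : ((t' : Matrix (Fin 2) (Fin 2) F) - (t : Matrix (Fin 2) (Fin 2) F)) *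
          ((t' : Matrix (Fin 2) (Fin 2) F) + (t : Matrix (Fin 2) (Fin 2) F) - τ • 1) =
          (t' : Matrix (Fin 2) (Fin 2) F) * t' - τ • (t' : Matrix (Fin 2) (Fin 2) F) -
          ((t : Matrix (Fin 2) (Fin 2) F) * t - τ • (t : Matrix (Fin 2) (Fin 2) F)) +
          ((t' : Matrix (Fin 2) (Fin 2) F) * t - t * t') := by
          simp only [sub_mul, mul_sub, mul_add, mul_smul_comm, mul_one, smul_sub]
          abel
        rw [e1, hCH, hCH', hc]
        abel
      by_cases hx : (t' : Matrix (Fin 2) (Fin 2) F) - (t : Matrix (Fin 2) (Fin 2) F) = 0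
      · left
        have htt : t' = t := Subtype.ext (sub_eq_zero.mp hx)
        apply hcent t ht h1 h2
        rw [ht', mul_assoc, inv_mul_eq_iff_eq_mul] at htt
        exact htt
      · right
        have hu := hunit _ (K.sub_mem htK' htK) hx
        have hy := (hu.mul_right_eq_zero).mp hprod
        have htt : t' = t⁻¹ := by
          rw [eq_inv_iff_mul_eq_one]
          apply Subtype.ext
          rw [Matrix.SpecialLinearGroup.coe_mul, Matrix.SpecialLinearGroup.coe_one]
          have e2 : (t' : Matrix (Fin 2) (Fin 2) F) = τ • 1 - (t : Matrix (Fin 2) (Fin 2) F) := by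
            rw [eq_sub_iff_add_eq]
            exact sub_eq_zero.mp hy
          rw [e2, sub_mul, hCH]
          simp
        apply hcent t ht h1 h2
        have hst : s⁻¹ * t * s = t⁻¹ := hsT t ht
        have h6 : g⁻¹ * t * g = s⁻¹ * t * s := by rw [hst, ← htt]
        have h7 : t * g = g * s⁻¹ * t * s := by
          have := congrArg (fun z => g * z) h6
          simpa [mul_assoc] using this
        calc t * (g * s⁻¹) = (t * g) * s⁻¹ := by rw [mul_assoc]
          _ = g * s⁻¹ * t * s * s⁻¹ := by rw [h7]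
          _ = g * s⁻¹ * t := by rw [mul_assoc _ s, mul_inv_cancel, mul_one]
  · intro t ht h1 h2 c v hv hcv
    have htK := (hT t).mp ht
    by_cases hx : (t : Matrix (Fin 2) (Fin 2) F) - c • 1 = 0
    · rcases eq_one_or_of_smul t c (sub_eq_zero.mp hx) with h | h
      · exact h1 h
      · exact h2 h
    · have hu := hunit _ (K.sub_mem htK (K.smul_mem K.one_mem c)) hx
      apply hv
      have h3 : ((t : Matrix (Fin 2) (Fin 2) F) - c • 1).mulVec v = 0 := by
        rw [Matrix.sub_mulVec, hcv, Matrix.smul_mulVec, Matrix.one_mulVec, sub_self]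
      obtain ⟨u, hu⟩ := hu
      have h4 : (↑u⁻¹ : Matrix (Fin 2) (Fin 2) F).mulVec
          (((t : Matrix (Fin 2) (Fin 2) F) - c • 1).mulVec v) = v := by
        rw [← hu, Matrix.mulVec_mulVec, Units.inv_mul, Matrix.one_mulVec]
      rw [← h4, h3, Matrix.mulVec_zero]

theorem exists_not_isSquare (hodd : Odd (Fintype.card F)) : ∃ ε : F, ¬ IsSquare ε := by
  apply FiniteField.exists_nonsquare
  intro hc
  apply two_ne_zero_of_odd (F := F) hodd
  have := ringChar.Nat.cast_ringChar (R := F)
  rw [hc] at this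
  exact_mod_cast this

omit [Fintype F] in
/-- Two elements `x + y J`, `x' + y' J` commute. -/
theorem comm_of_form {ε : F} {g h : SL(2, F)} {x y x' y' : F} (g00 : g.1 0 0 = x) (g01 : g.1 0 1 = ε * y)
    (g10 : g.1 1 0 = y) (g11 : g.1 1 1 = x) (h00 : h.1 0 0 = x') (h01 : h.1 0 1 = ε * y')
    (h10 : h.1 1 0 = y') (h11 : h.1 1 1 = x') : g * h = h * g := by
  apply ext4
  · rw [mul00, mul00, g00, g01, g10, h00, h01, h10]; ring
  · rw [mul01, mul01, g00, g01, g11, h00, h01, h11]; ring
  · rw [mul10, mul10, g10, g11, g00, h00, h10, h11]; ring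
  · rw [mul11, mul11, g10, g11, g01, h10, h01, h11]; ring

/-- **Elements without eigenvector are conjugate into every non-split torus.** -/
theorem conj_into_nonsplit (hodd : Odd (Fintype.card F)) {a : SL(2, F)} (ha : NoEig a)
    (hcent : ∀ g : SL(2, F), a * g = g * a → g ∈ Subgroup.zpowers a) {g : SL(2, F)} (hg : NoEig g) :
    ∃ h : SL(2, F), h * g * h⁻¹ ∈ Subgroup.zpowers a := by
  obtain ⟨ε, hε⟩ := exists_not_isSquare (F := F) hodd
  obtain ⟨P, x, y, p00, p01, p10, p11⟩ := ha.exists_conj hodd hε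
  obtain ⟨Q, x', y', q00, q01, q10, q11⟩ := hg.exists_conj hodd hε
  refine ⟨P * Q⁻¹, hcent _ ?_⟩
  have hc := comm_of_form p00 p01 p10 p11 q00 q01 q10 q11
  calc a * (P * Q⁻¹ * g * (P * Q⁻¹)⁻¹) = P * ((P⁻¹ * a * P) * (Q⁻¹ * g * Q)) * P⁻¹ := by group
    _ = P * ((Q⁻¹ * g * Q) * (P⁻¹ * a * P)) * P⁻¹ := by rw [hc]
    _ = P * Q⁻¹ * g * (P * Q⁻¹)⁻¹ * a := by group

end finite

end Cfsg.Agent.H140.SLTwo
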