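import Mathlib

/-!
# The Möbius function from below of a finite partial order, by chains

* `chains a`: the finite sets `C` of elements `b`, `⊥ < b < a`, which are chains; `csum a = ∑ (-1) ^ |C|`.
* `mu a = 1` if `a = ⊥`, `- csum a` otherwise; `sum_mu : ∑ b ≤ a, mu b = 0` for `a ≠ ⊥` (Philip Hall).
* `weisner`: in a lattice `∑ (y ⊔ s = a) mu y = 0` for `⊥ ≠ s ≤ a`.
* `mu_map`: invariance under embeddings with downward closed range.
-/

set_option autoImplicit false

namespace Cfsg.Agent.H140.Moebius

open Finset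

section order

variable {P : Type*} [PartialOrder P] [OrderBot P] [Fintype P]

open Classical in
/-- chains strictly between `⊥` and `a` -/
noncomputable def chains (a : P) : Finset (Finset P) :=
  Finset.univ.filter fun C => IsChain (· ≤ ·) (C : Set P) ∧ ∀ b ∈ C, ⊥ < b ∧ b < a

theorem mem_chains {a : P} {C : Finset P} :
    C ∈ chains a ↔ IsChain (· ≤ ·) (C : Set P) ∧ ∀ b ∈ C, ⊥ < b ∧ b < a := by
  classical
  simp [chains]

/-- the alternating sum over the chains -/
noncomputable def csum (a : P) : ℤ := ∑ C ∈ chains a, (-1) ^ C.card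

open Classical in
/-- the Möbius function -/
noncomputable def mu (a : P) : ℤ := if a = ⊥ then 1 else - csum a

theorem mu_bot : mu (⊥ : P) = 1 := if_pos rfl

theorem mu_of_ne {a : P} (h : a ≠ ⊥) : mu a = - csum a := if_neg h

omit [OrderBot P] [Fintype P] in
theorem exists_greatest {C : Finset P} (hC : IsChain (· ≤ ·) (C : Set P)) (hne : C.Nonempty) :
    ∃ b ∈ C, ∀ c ∈ C, c ≤ b := by
  obtain ⟨b, hb⟩ := C.exists_maximal hne
  refine ⟨b, hb.1, fun c hc => ?_⟩
  rcases hC.total hc hb.1 with h | h
  · exact h
  · exact hb.2 hc h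

open Classical in
theorem csum_eq (a : P) :
    csum a = 1 - ∑ b ∈ Finset.univ.filter (fun b : P => ⊥ < b ∧ b < a), csum b := by
  have h0 : (∅ : Finset P) ∈ chains a := by
    rw [mem_chains]
    simp
  rw [csum, ← Finset.add_sum_erase _ _ h0, Finset.card_empty, pow_zero, sub_eq_add_neg]
  congr 1
  -- insert the sum over the greatest element
  have h1 : ∀ C ∈ (chains a).erase ∅, ((-1 : ℤ)) ^ C.card =
      ∑ b ∈ Finset.univ.filter (fun b : P => ⊥ < b ∧ b < a),
        if b ∈ C ∧ ∀ c ∈ C, c ≤ b then (-1 : ℤ) ^ C.card else 0 := by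
    intro C hC
    rw [Finset.mem_erase, mem_chains] at hC
    obtain ⟨hne, hch, hlt⟩ := hC
    obtain ⟨b, hb, hmax⟩ := exists_greatest hch (Finset.nonempty_iff_ne_empty.mpr hne)
    rw [Finset.sum_eq_single_of_mem b (by simpa using hlt b hb)]
    · rw [if_pos ⟨hb, hmax⟩]
    · intro c _ hcb
      rw [if_neg]
      rintro ⟨hc, hmax'⟩
      exact hcb (le_antisymm (hmax c hc) (hmax' b hb))
  rw [Finset.sum_congr rfl h1, Finset.sum_comm, ← Finset.sum_neg_distrib]
  apply Finset.sum_congr rfl
  intro b hb
  simp only [Finset.mem_filter, Finset.mem_univ, true_and] at hb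
  rw [← Finset.sum_filter, csum, ← Finset.sum_neg_distrib]
  symm
  refine Finset.sum_bij' (fun C _ => insert b C) (fun C _ => C.erase b) ?_ ?_ ?_ ?_ ?_
  · intro C hC
    rw [mem_chains] at hC
    simp only [Finset.mem_filter, Finset.mem_erase, mem_chains]
    refine ⟨⟨Finset.insert_ne_empty _ _, ?_, ?_⟩, Finset.mem_insert_self _ _, ?_⟩
    · rw [Finset.coe_insert]
      exact hC.1.insert fun c hc _ => Or.inr (hC.2 c hc).2.le
    · intro c hc
      rcases Finset.mem_insert.mp hc with rfl | hc
      · exact hb
      · exact ⟨(hC.2 c hc).1, (hC.2 c hc).2.trans hb.2⟩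
    · intro c hc
      rcases Finset.mem_insert.mp hc with rfl | hc
      · exact le_rfl
      · exact (hC.2 c hc).2.le
  · intro C hC
    simp only [Finset.mem_filter, Finset.mem_erase, mem_chains] at hC
    obtain ⟨⟨_, hch, hlt⟩, hbC, hmax⟩ := hC
    rw [mem_chains]
    refine ⟨hch.mono (by simp), ?_⟩
    intro c hc
    rw [Finset.mem_erase] at hc
    exact ⟨(hlt c hc.2).1, lt_of_le_of_ne (hmax c hc.2) hc.1⟩
  · intro C hC
    rw [mem_chains] at hC
    exact Finset.erase_insert fun h => lt_irrefl _ (hC.2 b h).2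
  · intro C hC
    simp only [Finset.mem_filter, Finset.mem_erase, mem_chains] at hC
    exact Finset.insert_erase hC.2.1
  · intro C hC
    rw [mem_chains] at hC
    rw [Finset.card_insert_of_notMem fun h => lt_irrefl _ (hC.2 b h).2, pow_succ]
    ring

open Classical in
/-- **Philip Hall's theorem**: `mu` is the Möbius function. -/
theorem sum_mu {a : P} (ha : a ≠ ⊥) : ∑ b ∈ Finset.univ.filter (fun b : P => b ≤ a), mu b = 0 := by
  have e : Finset.univ.filter (fun b : P => b ≤ a) =
      insert a (insert ⊥ (Finset.univ.filter (fun b : P => ⊥ < b ∧ b < a))) := by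
    ext b
    simp only [Finset.mem_filter, Finset.mem_univ, true_and, Finset.mem_insert]
    constructor
    · intro h
      rcases eq_or_lt_of_le h with h | h
      · exact Or.inl h
      · by_cases hb : b = ⊥
        · exact Or.inr (Or.inl hb)
        · exact Or.inr (Or.inr ⟨bot_lt_iff_ne_bot.mpr hb, h⟩)
    · rintro (rfl | rfl | h)
      · exact le_rfl
      · exact bot_le
      · exact h.2.le
  rw [e, Finset.sum_insert, Finset.sum_insert, mu_bot, mu_of_ne ha, csum_eq]
  · have h2 : ∑ b ∈ Finset.univ.filter (fun b : P => ⊥ < b ∧ b < a), mu b =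
        - ∑ b ∈ Finset.univ.filter (fun b : P => ⊥ < b ∧ b < a), csum b := by
      rw [← Finset.sum_neg_distrib]
      apply Finset.sum_congr rfl
      intro b hb
      simp only [Finset.mem_filter, Finset.mem_univ, true_and] at hb
      exact mu_of_ne hb.1.ne'
    rw [h2]
    ring
  · simp
  · simp only [Finset.mem_insert, Finset.mem_filter, Finset.mem_univ, true_and, not_or]
    exact ⟨ha, fun h => lt_irrefl _ h.2⟩

open Classical in
theorem mu_eq_neg_sum {a : P} (ha : a ≠ ⊥) :
    mu a = - ∑ b ∈ Finset.univ.filter (fun b : P => b < a), mu b := by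
  have h := sum_mu ha
  have e : Finset.univ.filter (fun b : P => b ≤ a) =
      insert a (Finset.univ.filter (fun b : P => b < a)) := by
    ext b
    simp only [Finset.mem_filter, Finset.mem_univ, true_and, Finset.mem_insert]
    exact le_iff_eq_or_lt
  rw [e, Finset.sum_insert (by simp)] at h
  linarith

end order

open Classical in
/-- `mu` is invariant under embeddings with downward closed range. -/
theorem mu_map {P Q : Type*} [PartialOrder P] [OrderBot P] [Fintype P] [PartialOrder Q]
    [OrderBot Q] [Fintype Q] (φ : P → Q) (hle : ∀ a b, φ a ≤ φ b ↔ a ≤ b) (hbot : φ ⊥ = ⊥)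
    (hdown : ∀ a : P, ∀ b : Q, b ≤ φ a → ∃ c, φ c = b) (a : P) : mu (φ a) = mu a := by
  have hinj : Function.Injective φ := fun a b h =>
    le_antisymm ((hle a b).mp h.le) ((hle b a).mp h.ge)
  have hlt : ∀ a b, φ a < φ b ↔ a < b := by
    intro a b
    rw [lt_iff_le_and_ne, lt_iff_le_and_ne, hle, hinj.ne_iff]
  induction a using WellFoundedLT.induction with
  | ind a ih =>
    by_cases ha : a = ⊥
    · rw [ha, hbot, mu_bot, mu_bot]
    · have ha' : φ a ≠ ⊥ := fun h => ha (hinj (h.trans hbot.symm))
      rw [mu_eq_neg_sum ha, mu_eq_neg_sum ha']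
      congr 1
      symm
      apply Finset.sum_bij (fun b _ => φ b)
      · intro b hb
        simp only [Finset.mem_filter, Finset.mem_univ, true_and] at hb ⊢
        exact (hlt b a).mpr hb
      · intro b _ c _ h
        exact hinj h
      · intro b hb
        simp only [Finset.mem_filter, Finset.mem_univ, true_and] at hb
        obtain ⟨c, rfl⟩ := hdown a b hb.le
        exact ⟨c, by simpa using (hlt c a).mp hb, rfl⟩
      · intro b hb
        simp only [Finset.mem_filter, Finset.mem_univ, true_and] at hb
        exact (ih b hb).symm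

open Classical in
/-- **Weisner's theorem.** -/
theorem weisner {P : Type*} [Lattice P] [OrderBot P] [Fintype P] {s : P} (hs : s ≠ ⊥) (a : P)
    (hsa : s ≤ a) : ∑ y ∈ Finset.univ.filter (fun y : P => y ⊔ s = a), mu y = 0 := by
  induction a using WellFoundedLT.induction with
  | ind a ih =>
    have ha : a ≠ ⊥ := fun h => hs (le_bot_iff.mp (h ▸ hsa))
    have h := sum_mu ha
    have hmaps : ∀ y ∈ Finset.univ.filter (fun y : P => y ≤ a),
        y ⊔ s ∈ Finset.univ.filter (fun z : P => s ≤ z ∧ z ≤ a) := by
      intro y hy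
      simp only [Finset.mem_filter, Finset.mem_univ, true_and] at hy ⊢
      exact ⟨le_sup_right, sup_le hy hsa⟩
    rw [← Finset.sum_fiberwise_of_maps_to hmaps] at h
    have hmem : a ∈ Finset.univ.filter (fun z : P => s ≤ z ∧ z ≤ a) := by simp [hsa]
    rw [← Finset.add_sum_erase _ _ hmem] at h
    have hzero : ∑ z ∈ (Finset.univ.filter (fun z : P => s ≤ z ∧ z ≤ a)).erase a,
        ∑ y ∈ (Finset.univ.filter (fun y : P => y ≤ a)).filter (fun y => y ⊔ s = z), mu y = 0 := by
      apply Finset.sum_eq_zero
      intro z hz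
      simp only [Finset.mem_erase, Finset.mem_filter, Finset.mem_univ, true_and] at hz
      have h3 := ih z (lt_of_le_of_ne hz.2.2 hz.1) hz.2.1
      rw [← h3]
      apply Finset.sum_congr _ (fun _ _ => rfl)
      ext y
      simp only [Finset.mem_filter, Finset.mem_univ, true_and]
      constructor
      · exact fun h => h.2
      · intro h
        exact ⟨(le_sup_left.trans h.le).trans hz.2.2, h⟩
    rw [hzero, add_zero] at h
    rw [← h]
    apply Finset.sum_congr _ (fun _ _ => rfl)
    ext y
    simp only [Finset.mem_filter, Finset.mem_univ, true_and]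
    constructor
    · intro h
      exact ⟨le_sup_left.trans h.le, h⟩
    · exact fun h => h.2

end Cfsg.Agent.H140.Moebius
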