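import Mathlib

/-!
# S4536, the number estimate N2 (helper140)
-/

set_option autoImplicit false

open Finset

namespace Cfsg.Agent.H140.S4536

theorem pow_bernoulli (e : ℕ) : ∀ j : ℕ, e ^ (j + 1) + (j + 1) * e ^ j ≤ (e + 1) ^ (j + 1)
  | 0 => by simp
  | j + 1 => by
    have h := Nat.mul_le_mul_right (e + 1) (pow_bernoulli e j)
    have h2 : (e ^ (j + 1) + (j + 1) * e ^ j) * (e + 1) =
        e ^ (j + 2) + (j + 2) * e ^ (j + 1) + (j + 1) * e ^ j := by ring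
    rw [h2, ← pow_succ] at h
    exact (Nat.le_add_right _ _).trans h

theorem N2 (p e e₀ w k K : ℕ) (hp : p.Prime) (he : e ∣ p - 1) (he₀ : e₀ ∣ e) (he₀' : 0 < e₀) (hw : 1 ≤ w)
    (hk : 1 ≤ k) (hK : K ≤ e₀ * (e₀ + 1) ^ (w - 1)) :
    (e / e₀) * ∑ c ∈ range k, K ^ Nat.gcd c k ≤ p ^ (k * w) := by
  obtain ⟨j, rfl⟩ : ∃ j, k = j + 1 := ⟨k - 1, by omega⟩
  obtain ⟨v, rfl⟩ : ∃ v, w = v + 1 := ⟨w - 1, by omega⟩
  obtain ⟨d, rfl⟩ := he₀
  have hp2 := hp.two_le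
  have hpe : e₀ * d + 1 ≤ p := by
    have := Nat.le_of_dvd (by omega) he
    omega
  have hd : 1 ≤ d := by
    rcases Nat.eq_zero_or_pos d with h | h
    · subst h
      rw [mul_zero, zero_dvd_iff] at he
      omega
    · exact h
  rw [Nat.mul_div_cancel_left _ he₀']
  have h1 : ∑ c ∈ range (j + 1), K ^ Nat.gcd c (j + 1) ≤ j * K ^ j + K ^ (j + 1) := by
    rw [Finset.sum_range_succ', Nat.gcd_zero_left]
    refine Nat.add_le_add_right ?_ _
    refine (Finset.sum_le_card_nsmul _ _ (K ^ j) fun c hc => ?_).trans ?_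
    · rw [Finset.mem_range] at hc
      have h2 : Nat.gcd (c + 1) (j + 1) ≤ j := (Nat.gcd_le_left _ (by omega)).trans (by omega)
      have h3 : 0 < Nat.gcd (c + 1) (j + 1) := Nat.gcd_pos_of_pos_left _ (by omega)
      rcases Nat.eq_zero_or_pos K with hK0 | hK0
      · rw [hK0, zero_pow h3.ne']
        exact Nat.zero_le _
      · exact Nat.pow_le_pow_right hK0 h2
    · rw [Finset.card_range, smul_eq_mul]
  rw [Nat.add_sub_cancel] at hK
  set A := p ^ v with hA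
  have hA1 : 1 ≤ A := Nat.one_le_pow _ _ (by omega)
  have hKA : K ≤ e₀ * A := hK.trans (Nat.mul_le_mul_left _ (Nat.pow_le_pow_left (by nlinarith) v))
  have h2 : d * K ^ (j + 1) ≤ (e₀ * d) ^ (j + 1) * A ^ (j + 1) := by
    calc d * K ^ (j + 1) ≤ d * (e₀ * A) ^ (j + 1) := Nat.mul_le_mul_left _ (Nat.pow_le_pow_left hKA _)
      _ ≤ d ^ (j + 1) * (e₀ * A) ^ (j + 1) := Nat.mul_le_mul_right _ (Nat.le_self_pow (by omega) d)
      _ = (e₀ * d) ^ (j + 1) * A ^ (j + 1) := by ring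
  have h3 : d * (j * K ^ j) ≤ (j + 1) * (e₀ * d) ^ j * A ^ (j + 1) := by
    rcases Nat.eq_zero_or_pos j with hj | hj
    · subst hj
      rw [zero_mul, mul_zero]; exact Nat.zero_le _
    calc d * (j * K ^ j) ≤ d ^ j * ((j + 1) * (e₀ * A) ^ j) :=
          Nat.mul_le_mul (Nat.le_self_pow (by omega) d)
            (Nat.mul_le_mul (by omega) (Nat.pow_le_pow_left hKA _))
      _ = (j + 1) * (e₀ * d) ^ j * A ^ j := by ring
      _ ≤ (j + 1) * (e₀ * d) ^ j * A ^ (j + 1) := Nat.mul_le_mul_left _ (Nat.pow_le_pow_right hA1 (by omega))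
  have h4 : ((e₀ * d) ^ (j + 1) + (j + 1) * (e₀ * d) ^ j) * A ^ (j + 1) ≤ p ^ (j + 1) * A ^ (j + 1) :=
    Nat.mul_le_mul_right _ ((pow_bernoulli (e₀ * d) j).trans (Nat.pow_le_pow_left hpe _))
  have h5 : p ^ ((j + 1) * (v + 1)) = p ^ (j + 1) * A ^ (j + 1) := by
    rw [hA, ← pow_mul, ← pow_add]; congr 1; ring
  rw [h5]
  refine (Nat.mul_le_mul_left d h1).trans ?_
  rw [mul_add]
  nlinarith [h2, h3, h4]

end Cfsg.Agent.H140.S4536
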