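import Mathlib
import Cfsg.Prelude.Def_LinearParabolics
import Cfsg.Agent.H139.BlockCount

/-!
# The permutations `κ` with `κ i ≤ i + 1`
-/

set_option autoImplicit false

namespace Cfsg.Agent.H140.SteinComb

open Finset Equiv Cfsg.Agent.H139.BlockCount

/-- the `k` with `κ {0, …, k-1} = {0, …, k-1}` -/
def D {n : ℕ} (κ : Perm (Fin n)) : Finset ℕ :=
  (Finset.Ioo 0 n).filter fun k => ∀ i : Fin n, i.val < k → (κ i).val < k

theorem mem_D {n : ℕ} {κ : Perm (Fin n)} {k : ℕ} :
    k ∈ D κ ↔ (0 < k ∧ k < n) ∧ ∀ i : Fin n, i.val < k → (κ i).val < k := by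
  rw [D, Finset.mem_filter, Finset.mem_Ioo]

section psum

variable {n : ℕ} (κ : Perm (Fin n)) (hκ : ∀ i : Fin n, (κ i).val ≤ 1 + i.val)

include hκ

theorem psum_inv (k : ℕ) (hk : k ≤ n) :
    psum (fun i : Fin n => 1 + i.val - (κ i).val) k ≤ k ∧
    (∀ i : Fin n, i.val < k → (κ i).val ≠ psum (fun i : Fin n => 1 + i.val - (κ i).val) k) ∧
    (∀ j ≤ k, j ≠ psum (fun i : Fin n => 1 + i.val - (κ i).val) k → ∃ i : Fin n, i.val < k ∧ (κ i).val = j) := by
  induction k with
  | zero =>
    rw [psum_zero]
    refine ⟨le_rfl, fun i hi => absurd hi (Nat.not_lt_zero _), fun j hj hj0 => ?_⟩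
    omega
  | succ k ih =>
    obtain ⟨h1, h2, h3⟩ := ih (by omega)
    have h4 := psum_succ (fun i : Fin n => 1 + i.val - (κ i).val) ⟨k, hk⟩
    simp only at h4
    set m := psum (fun i : Fin n => 1 + i.val - (κ i).val) k with hm
    have h5 := hκ ⟨k, hk⟩
    simp only at h5
    rcases eq_or_ne ((κ ⟨k, hk⟩).val) (k + 1) with h6 | h6
    · have h7 : psum (fun i : Fin n => 1 + i.val - (κ i).val) (k + 1) = m := by
        rw [h4, h6]; omega
      rw [h7]
      refine ⟨by omega, ?_, ?_⟩
      · intro i hi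
        rcases Nat.lt_succ_iff_lt_or_eq.mp hi with hi | hi
        · exact h2 i hi
        · have : i = ⟨k, hk⟩ := Fin.ext hi
          rw [this, h6]
          omega
      · intro j hj hjm
        rcases Nat.lt_or_ge k j with h8 | h8
        · exact ⟨⟨k, hk⟩, Nat.lt_succ_self k, by omega⟩
        · obtain ⟨i, hi, hij⟩ := h3 j h8 hjm
          exact ⟨i, by omega, hij⟩
    · have h8 : (κ ⟨k, hk⟩).val = m := by
        by_contra hne
        obtain ⟨i, hi, hij⟩ := h3 _ (by omega) hne
        have h9 : i = ⟨k, hk⟩ := κ.injective (Fin.ext hij)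
        rw [h9] at hi
        exact lt_irrefl _ hi
      have h7 : psum (fun i : Fin n => 1 + i.val - (κ i).val) (k + 1) = k + 1 := by
        rw [h4, h8]; omega
      rw [h7]
      refine ⟨le_rfl, ?_, ?_⟩
      · intro i hi
        have h9 := hκ i
        rcases Nat.lt_succ_iff_lt_or_eq.mp hi with hi | hi
        · omega
        · have : i = ⟨k, hk⟩ := Fin.ext hi
          rw [this, h8]
          omega
      · intro j hj hjm
        by_cases h9 : j = m
        · exact ⟨⟨k, hk⟩, Nat.lt_succ_self k, by rw [h8, h9]⟩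
        · obtain ⟨i, hi, hij⟩ := h3 j (by omega) h9
          exact ⟨i, by omega, hij⟩

theorem psum_n : psum (fun i : Fin n => 1 + i.val - (κ i).val) n = n := by
  obtain ⟨h1, h2, h3⟩ := psum_inv κ hκ n le_rfl
  by_contra hne
  obtain ⟨i, hi, hij⟩ := h3 n le_rfl (Ne.symm hne)
  have := (κ i).2
  omega

theorem psum_mem_D (k : ℕ) (hk : k ≤ n)
    (h0 : 0 < psum (fun i : Fin n => 1 + i.val - (κ i).val) k)
    (hn : psum (fun i : Fin n => 1 + i.val - (κ i).val) k < n) :
    psum (fun i : Fin n => 1 + i.val - (κ i).val) k ∈ D κ := by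
  obtain ⟨h1, h2, h3⟩ := psum_inv κ hκ k hk
  rw [mem_D]
  refine ⟨⟨h0, hn⟩, ?_⟩
  intro i hi
  have h4 := hκ i
  have h5 := h2 i (by omega)
  omega

theorem psum_of_mem_D {d : ℕ} (hd : d ∈ D κ) :
    psum (fun i : Fin n => 1 + i.val - (κ i).val) d = d := by
  rw [mem_D] at hd
  obtain ⟨h1, h2, h3⟩ := psum_inv κ hκ d hd.1.2.le
  by_contra hne
  obtain ⟨i, hi, hij⟩ := h3 d le_rfl (Ne.symm hne)
  have := hd.2 i hi
  omega

theorem mem_parabolic_iff {F : Type*} [Field F] (g : Matrix.GeneralLinearGroup (Fin n) F) :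
    g ∈ parabolicGL n F (fun i : Fin n => 1 + i.val - (κ i).val) ↔
      ∀ d ∈ D κ, ∀ i j : Fin n, d ≤ i.val → j.val < d → (g : Matrix (Fin n) (Fin n) F) i j = 0 := by
  have hn := psum_n κ hκ
  have hiff : g ∈ parabolicGL n F (fun i : Fin n => 1 + i.val - (κ i).val) ↔
      ∀ i j : Fin n, compLabel (fun i : Fin n => 1 + i.val - (κ i).val) j <
        compLabel (fun i : Fin n => 1 + i.val - (κ i).val) i → (g : Matrix (Fin n) (Fin n) F) i j = 0 := by
    constructor
    · intro h i j hij
      exact h hij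
    · intro h i j hij
      exact h i j hij
  rw [hiff]
  constructor
  · intro h d hd i j hi hj
    have hd' := mem_D.mp hd
    have hp := psum_of_mem_D κ hκ hd
    apply h
    have h1 : compLabel (fun i : Fin n => 1 + i.val - (κ i).val) j < d := by
      rw [compLabel_lt_iff _ j hd'.1.2.le hn, hp]
      exact hj
    have h2 : ¬ compLabel (fun i : Fin n => 1 + i.val - (κ i).val) i < d := by
      rw [compLabel_lt_iff _ i hd'.1.2.le hn, hp]
      omega
    omega
  · intro h i j hij
    set k := compLabel (fun i : Fin n => 1 + i.val - (κ i).val) i with hk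
    have hkn : k ≤ n := (compLabel_lt _ (by rw [← psum_last]; exact hn) i).le
    have h1 := (compLabel_lt_iff _ j hkn hn).mp hij
    have h2 : ¬ compLabel (fun i : Fin n => 1 + i.val - (κ i).val) i < k := by
      rw [← hk]; exact lt_irrefl _
    rw [compLabel_lt_iff _ i hkn hn] at h2
    have h3 := i.2
    exact h _ (psum_mem_D κ hκ k hkn (by omega) (by omega)) i j (by omega) h1

end psum

theorem val_zero {n : ℕ} (e : Perm (Fin n)) (i : Fin n) :
    ((Equiv.Perm.decomposeFin.symm ((0 : Fin (n + 1)), e)) i.succ).val = (e i).val + 1 := by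
  rw [Equiv.Perm.decomposeFin_symm_apply_succ, Equiv.swap_self, Equiv.refl_apply, Fin.val_succ]

theorem val_one {n : ℕ} (e : Perm (Fin (n + 1))) (i : Fin (n + 1)) :
    ((Equiv.Perm.decomposeFin.symm ((1 : Fin (n + 2)), e)) i.succ).val =
      if (e i).val = 0 then 0 else (e i).val + 1 := by
  rw [Equiv.Perm.decomposeFin_symm_apply_succ]
  split_ifs with h
  · have h1 : (e i).succ = 1 := by
      apply Fin.ext
      simp [h]
    rw [h1, Equiv.swap_apply_right]
    rfl
  · rw [Equiv.swap_apply_of_ne_of_ne (Fin.succ_ne_zero _), Fin.val_succ]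
    intro h1
    apply h
    have h2 := congrArg Fin.val h1
    rw [Fin.val_succ, Fin.val_one] at h2
    omega

theorem valid_zero {n : ℕ} (e : Perm (Fin (n + 1))) :
    (∀ i, ((Equiv.Perm.decomposeFin.symm ((0 : Fin (n + 2)), e)) i).val ≤ 1 + i.val) ↔
      ∀ i, (e i).val ≤ 1 + i.val := by
  rw [Fin.forall_fin_succ]
  constructor
  · rintro ⟨_, h⟩ i
    have := h i
    rw [val_zero, Fin.val_succ] at this
    omega
  · intro h
    refine ⟨by simp, fun i => ?_⟩
    rw [val_zero, Fin.val_succ]
    have := h i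
    omega

theorem valid_one {n : ℕ} (e : Perm (Fin (n + 1))) :
    (∀ i, ((Equiv.Perm.decomposeFin.symm ((1 : Fin (n + 2)), e)) i).val ≤ 1 + i.val) ↔
      ∀ i, (e i).val ≤ 1 + i.val := by
  rw [Fin.forall_fin_succ]
  constructor
  · rintro ⟨_, h⟩ i
    have := h i
    rw [val_one, Fin.val_succ] at this
    split_ifs at this with h1
    · omega
    · omega
  · intro h
    refine ⟨by simp, fun i => ?_⟩
    rw [val_one, Fin.val_succ]
    have := h i
    split_ifs
    · omega
    · omega

theorem D_zero {n : ℕ} (e : Perm (Fin (n + 1))) :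
    D (Equiv.Perm.decomposeFin.symm ((0 : Fin (n + 2)), e)) = insert 1 ((D e).image Nat.succ) := by
  ext k
  rw [mem_D, Fin.forall_fin_succ, Finset.mem_insert, Finset.mem_image]
  constructor
  · rintro ⟨⟨h1, h2⟩, _, h4⟩
    by_cases hk : k = 1
    · exact Or.inl hk
    · right
      refine ⟨k - 1, ?_, by omega⟩
      rw [mem_D]
      refine ⟨⟨by omega, by omega⟩, fun i hi => ?_⟩
      have := h4 i (by rw [Fin.val_succ]; omega)
      rw [val_zero] at this
      omega
  · rintro (rfl | ⟨m, hm, rfl⟩)
    · refine ⟨⟨by omega, by omega⟩, by simp, fun i hi => ?_⟩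
      rw [Fin.val_succ] at hi
      omega
    · rw [mem_D] at hm
      refine ⟨⟨by omega, by omega⟩, by simp, fun i hi => ?_⟩
      rw [Fin.val_succ] at hi
      have := hm.2 i (by omega)
      rw [val_zero]
      omega

theorem D_one {n : ℕ} (e : Perm (Fin (n + 1))) :
    D (Equiv.Perm.decomposeFin.symm ((1 : Fin (n + 2)), e)) = (D e).image Nat.succ := by
  ext k
  rw [mem_D, Fin.forall_fin_succ, Finset.mem_image]
  constructor
  · rintro ⟨⟨h1, h2⟩, h3, h4⟩
    have hk : k ≠ 1 := by
      rintro rfl
      have := h3 (by simp)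
      simp at this
    refine ⟨k - 1, ?_, by omega⟩
    rw [mem_D]
    refine ⟨⟨by omega, by omega⟩, fun i hi => ?_⟩
    have := h4 i (by rw [Fin.val_succ]; omega)
    rw [val_one] at this
    split_ifs at this
    · omega
    · omega
  · rintro ⟨m, hm, rfl⟩
    rw [mem_D] at hm
    refine ⟨⟨by omega, by omega⟩, ?_, fun i hi => ?_⟩
    · intro _
      simp
      omega
    · rw [Fin.val_succ] at hi
      have := hm.2 i (by omega)
      rw [val_one]
      split_ifs
      · omega
      · omega

/-- **The sum over the permutations `κ` with `κ i ≤ i + 1` as a sum over subsets.** -/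
theorem sum_perm (n : ℕ) (Φ : Finset ℕ → ℂ) :
    (∑ κ : Perm (Fin (n + 1)), if ∀ i : Fin (n + 1), (κ i).val ≤ 1 + i.val then
      ((Equiv.Perm.sign κ : ℤ) : ℂ) * Φ (D κ) else 0) =
    ∑ E ∈ (Finset.Ioo 0 (n + 1)).powerset, (-1 : ℂ) ^ (n + E.card) * Φ E := by
  induction n generalizing Φ with
  | zero =>
    have hD : D (1 : Perm (Fin 1)) = ∅ := by
      ext k
      rw [mem_D]
      simp
      omega
    have hI : Finset.Ioo 0 (0 + 1) = ∅ := by decide
    have hs : Subsingleton (Perm (Fin (0 + 1))) := inferInstanceAs (Subsingleton (Perm (Fin 1)))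
    rw [hI, Finset.powerset_empty, Finset.sum_singleton, Fintype.sum_subsingleton _ 1]
    rw [if_pos (fun i => by simp), hD]
    simp
  | succ n ih =>
    rw [← Equiv.sum_comp (Equiv.Perm.decomposeFin (n := n + 1)).symm, Fintype.sum_prod_type,
      Fin.sum_univ_succ, Fin.sum_univ_succ]
    have hrest : ∑ p : Fin n, ∑ e : Perm (Fin (n + 1)),
        (if ∀ i, ((Equiv.Perm.decomposeFin.symm (p.succ.succ, e)) i).val ≤ 1 + i.val then
          ((Equiv.Perm.sign (Equiv.Perm.decomposeFin.symm (p.succ.succ, e)) : ℤ) : ℂ) *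
            Φ (D (Equiv.Perm.decomposeFin.symm (p.succ.succ, e))) else 0) = 0 := by
      apply Finset.sum_eq_zero
      intro p _
      apply Finset.sum_eq_zero
      intro e _
      rw [if_neg]
      intro h
      have := h 0
      rw [Equiv.Perm.decomposeFin_symm_apply_zero] at this
      simp at this
    rw [hrest, add_zero]
    have e1 : ∀ e : Perm (Fin (n + 1)),
        (if ∀ i, ((Equiv.Perm.decomposeFin.symm ((0 : Fin (n + 2)), e)) i).val ≤ 1 + i.val then
          ((Equiv.Perm.sign (Equiv.Perm.decomposeFin.symm ((0 : Fin (n + 2)), e)) : ℤ) : ℂ) *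
            Φ (D (Equiv.Perm.decomposeFin.symm ((0 : Fin (n + 2)), e))) else 0) =
        if ∀ i : Fin (n + 1), (e i).val ≤ 1 + i.val then
          ((Equiv.Perm.sign e : ℤ) : ℂ) * Φ (insert 1 ((D e).image Nat.succ)) else 0 := by
      intro e
      simp only [valid_zero, D_zero, Equiv.Perm.decomposeFin.symm_sign, if_true, one_mul]
    have e2 : ∀ e : Perm (Fin (n + 1)),
        (if ∀ i, ((Equiv.Perm.decomposeFin.symm ((Fin.succ 0 : Fin (n + 2)), e)) i).val ≤ 1 + i.val then
          ((Equiv.Perm.sign (Equiv.Perm.decomposeFin.symm ((Fin.succ 0 : Fin (n + 2)), e)) : ℤ) : ℂ) *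
            Φ (D (Equiv.Perm.decomposeFin.symm ((Fin.succ 0 : Fin (n + 2)), e))) else 0) =
        - (if ∀ i : Fin (n + 1), (e i).val ≤ 1 + i.val then
          ((Equiv.Perm.sign e : ℤ) : ℂ) * Φ ((D e).image Nat.succ) else 0) := by
      intro e
      have h1 : (Fin.succ 0 : Fin (n + 2)) = 1 := rfl
      have h2 : ((1 : Fin (n + 2)) = 0) = False := by simp
      simp only [h1, valid_one, D_one, Equiv.Perm.decomposeFin.symm_sign, h2, if_false]
      split_ifs
      · simp
      · simp
    rw [Finset.sum_congr rfl fun e _ => e1 e, Finset.sum_congr rfl fun e _ => e2 e,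
      Finset.sum_neg_distrib, ih (fun E => Φ (insert 1 (E.image Nat.succ))),
      ih (fun E => Φ (E.image Nat.succ))]
    have hI : Finset.Ioo 0 (n + 1 + 1) = insert 1 ((Finset.Ioo 0 (n + 1)).image Nat.succ) := by
      ext k
      simp only [Finset.mem_Ioo, Finset.mem_insert, Finset.mem_image]
      constructor
      · intro h
        by_cases hk : k = 1
        · exact Or.inl hk
        · exact Or.inr ⟨k - 1, by omega, by omega⟩
      · rintro (rfl | ⟨m, hm, rfl⟩)
        · omega
        · omega
    have h1 : 1 ∉ (Finset.Ioo 0 (n + 1)).image Nat.succ := by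
      simp
    have hinj : Function.Injective (fun E : Finset ℕ => E.image Nat.succ) :=
      Finset.image_injective Nat.succ_injective
    rw [hI, Finset.sum_powerset_insert h1, Finset.powerset_image,
      Finset.sum_image (fun x _ y _ h => hinj h), Finset.sum_image (fun x _ y _ h => hinj h),
      ← Finset.sum_neg_distrib, add_comm]
    congr 1
    · apply Finset.sum_congr rfl
      intro E _
      rw [Finset.card_image_of_injective _ Nat.succ_injective]
      ring
    · apply Finset.sum_congr rfl
      intro E _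
      have h3 : 1 ∉ E.image Nat.succ := by
        intro h
        rw [Finset.mem_image] at h
        obtain ⟨m, hm, hm1⟩ := h
        have hm0 : m = 0 := by omega
        subst hm0
        rename_i hE
        have := Finset.mem_powerset.mp hE hm
        simp at this
      rw [Finset.card_insert_of_notMem h3, Finset.card_image_of_injective _ Nat.succ_injective]
      ring

end Cfsg.Agent.H140.SteinComb
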